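import Mathlib
import Groth.Prelude.Def_AssocGrMod
import Groth.Prelude.Def_EGA4b
import Groth.Agent.Lib.Helper1.LocalCrit

/-! helper7: flatness over a ring with a nilpotent ideal from flatness modulo the ideal and injectivity of the graded comparison map (uses the infinitesimal criterion of helper1). -/

set_option autoImplicit false
set_option linter.style.haveILetI false
set_option linter.unusedVariables false
set_option linter.unusedSectionVars false

universe u

open TensorProduct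

namespace Groth.Agent.Helper7.GrFlat

variable (A : Type u) [CommRing A] (I : Ideal A) (M : Type u) [AddCommGroup M] [Module A M]

/-- The submodule of `I ⊗ M` generated by the `a ⊗ m` with `a ∈ Iⁿ`. -/
def S (n : ℕ) : Submodule A (I ⊗[A] M) :=
  Submodule.span A {t | ∃ (a : I) (_ : (a : A) ∈ I ^ n) (m : M), t = a ⊗ₜ[A] m}

theorem S_one : S A I M 1 = ⊤ := by
  rw [eq_top_iff, ← TensorProduct.span_tmul_eq_top, Submodule.span_le]
  rintro _ ⟨a, m, rfl⟩
  exact Submodule.subset_span ⟨a, by rw [pow_one]; exact a.2, m, rfl⟩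

theorem S_eq_bot (n : ℕ) (hn : I ^ n = ⊥) : S A I M n = ⊥ := by
  rw [eq_bot_iff, S, Submodule.span_le]
  rintro _ ⟨a, ha, m, rfl⟩
  rw [hn, Ideal.mem_bot] at ha
  have : a = 0 := Subtype.ext ha
  rw [this, TensorProduct.zero_tmul]
  exact Submodule.zero_mem _

/-- `Iⁿ ⊗ M → I ⊗ M` for `n ≥ 1`. -/
noncomputable def iota (n : ℕ) (hn : n ≠ 0) : (↥(I ^ n)) ⊗[A] M →ₗ[A] I ⊗[A] M :=
  LinearMap.rTensor M (Submodule.inclusion (Ideal.pow_le_self hn))

theorem iota_tmul (n : ℕ) (hn : n ≠ 0) (a : ↥(I ^ n)) (m : M) :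
    iota A I M n hn (a ⊗ₜ m) = (⟨a.1, Ideal.pow_le_self hn a.2⟩ : I) ⊗ₜ[A] m := rfl

theorem S_le_range_iota (n : ℕ) (hn : n ≠ 0) : S A I M n ≤ LinearMap.range (iota A I M n hn) := by
  rw [S, Submodule.span_le]
  rintro _ ⟨a, ha, m, rfl⟩
  exact ⟨(⟨a.1, ha⟩ : ↥(I ^ n)) ⊗ₜ m, rfl⟩

theorem exists_fin_sum {P Q : Type u} [AddCommGroup P] [Module A P] [AddCommGroup Q] [Module A Q]
    (w : P ⊗[A] Q) : ∃ (k : ℕ) (a : Fin k → P) (x : Fin k → Q), w = ∑ i, a i ⊗ₜ[A] x i := by
  induction w using TensorProduct.induction_on with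
  | zero => exact ⟨0, Fin.elim0, Fin.elim0, by simp⟩
  | tmul p q => exact ⟨1, fun _ => p, fun _ => q, by simp⟩
  | add w₁ w₂ h₁ h₂ =>
    obtain ⟨k₁, a₁, x₁, rfl⟩ := h₁
    obtain ⟨k₂, a₂, x₂, rfl⟩ := h₂
    refine ⟨k₁ + k₂, Fin.append a₁ a₂, Fin.append x₁ x₂, ?_⟩
    rw [Fin.sum_univ_add]
    simp

theorem tmul_mem_S_succ (n : ℕ) (c : I) (hc : (c : A) ∈ I ^ n) (y : M)
    (hy : y ∈ (I • ⊤ : Submodule A M)) : c ⊗ₜ[A] y ∈ S A I M (n + 1) := by
  refine Submodule.smul_induction_on hy ?_ ?_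
  · intro b hb m _
    rw [← TensorProduct.smul_tmul]
    refine Submodule.subset_span ⟨b • c, ?_, m, rfl⟩
    change b * (c : A) ∈ I ^ (n + 1)
    rw [pow_succ']
    exact Ideal.mul_mem_mul hb hc
  · intro y₁ y₂ h₁ h₂
    rw [TensorProduct.tmul_add]
    exact add_mem h₁ h₂

theorem step
    (hinj : ∀ (n k : ℕ) (a : Fin k → ↥((FiltBl.IdealFiltration.adic I).F n))
      (x : Fin k → ↥((Rees.powFilt I M).N 0)),
      (∑ i, (AssocGr.inDeg (FiltBl.IdealFiltration.adic I) n (a i) :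
          AssocGr.GrRing (FiltBl.IdealFiltration.adic I)) •
        (AssocGr.inDegM (Rees.powFilt I M) 0 (x i) : AssocGr.GrMod (Rees.powFilt I M))) = 0 →
      (∑ i, (AssocGr.inDeg (FiltBl.IdealFiltration.adic I) n (a i)) ⊗ₜ[A]
          (Submodule.Quotient.mk (x i : M)) :
        ↥(AssocGr.gr (FiltBl.IdealFiltration.adic I) n) ⊗[A] (M ⧸ (I • (⊤ : Submodule A M)))) = 0)
    (n : ℕ) (hn : n ≠ 0) (z : I ⊗[A] M) (hz : z ∈ S A I M n)
    (hz0 : LinearMap.rTensor M I.subtype z = 0) : z ∈ S A I M (n + 1) := by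
  obtain ⟨w, rfl⟩ := S_le_range_iota A I M n hn hz
  obtain ⟨k, a, x, rfl⟩ := exists_fin_sum A w
  have hsum : ∑ i, ((a i : ↥(I ^ n)) : A) • x i = 0 := by
    have := congrArg (TensorProduct.lid A M) hz0
    simpa [iota_tmul] using this
  let a' : Fin k → ↥((FiltBl.IdealFiltration.adic I).F n) := a
  let x' : Fin k → ↥((Rees.powFilt I M).N 0) := fun i => ⟨x i, by
    show x i ∈ I ^ 0 • (⊤ : Submodule A M)
    rw [pow_zero, Ideal.one_eq_top, Submodule.top_smul]
    exact Submodule.mem_top⟩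
  have h1 : (∑ i, (AssocGr.inDeg (FiltBl.IdealFiltration.adic I) n (a' i) : AssocGr.GrRing (FiltBl.IdealFiltration.adic I)) •
      (AssocGr.inDegM (Rees.powFilt I M) 0 (x' i) : AssocGr.GrMod (Rees.powFilt I M))) = 0 := by
    simp_rw [AssocGr.inDeg_smul_inDegM]
    rw [← AddSubmonoidClass.coe_finsetSum, ← map_sum, ZeroMemClass.coe_eq_zero,
      AssocGr.inDegM_eq_zero_iff]
    have : ((∑ i, (⟨((a' i : ↥((FiltBl.IdealFiltration.adic I).F n)) : A) • ((x' i : ↥((Rees.powFilt I M).N 0)) : M), (Rees.powFilt I M).pow_smul_le n 0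
        (Submodule.smul_mem_smul (show ((a' i : ↥((FiltBl.IdealFiltration.adic I).F n)) : A) ∈ I ^ n from (a' i).2) (x' i).2)⟩ :
        ↥((Rees.powFilt I M).N (n + 0))) : ↥((Rees.powFilt I M).N (n + 0))) : M) = ∑ i, ((a i : ↥(I ^ n)) : A) • x i := by
      rw [Submodule.coe_sum]
    rw [this, hsum]
    exact Submodule.zero_mem _
  have h2 := hinj n k a' x' h1
  let g : ↥(I ^ n) →ₗ[A] ↥(AssocGr.gr (FiltBl.IdealFiltration.adic I) n) := AssocGr.inDeg (FiltBl.IdealFiltration.adic I) n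
  let T := TensorProduct.map g (Submodule.mkQ (I • ⊤ : Submodule A M))
  have hT : T (∑ i, a i ⊗ₜ[A] x i) = 0 := by
    rw [map_sum]
    exact h2
  have hex1 : Function.Exact
      (Submodule.inclusion (Ideal.pow_le_pow_right (Nat.le_succ n)) : ↥(I ^ (n + 1)) →ₗ[A] ↥(I ^ n))
      g := by
    intro b
    have hb0 : g b = 0 ↔ (b : A) ∈ I ^ (n + 1) := AssocGr.inDeg_eq_zero_iff (FiltBl.IdealFiltration.adic I) n b
    rw [hb0]
    constructor
    · intro hb
      exact ⟨⟨b.1, hb⟩, rfl⟩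
    · rintro ⟨c, rfl⟩
      exact c.2
  have hex2 : Function.Exact (I • ⊤ : Submodule A M).subtype (Submodule.mkQ _) :=
    LinearMap.exact_subtype_mkQ _
  have hker := TensorProduct.map_ker hex1 (AssocGr.inDeg_surjective (FiltBl.IdealFiltration.adic I) n) hex2
    (Submodule.mkQ_surjective _)
  have hw : (∑ i, a i ⊗ₜ[A] x i) ∈ LinearMap.ker T := hT
  rw [hker, Submodule.mem_sup] at hw
  obtain ⟨u, ⟨t, rfl⟩, v, ⟨t', rfl⟩, huv⟩ := hw
  rw [← huv, map_add]
  clear huv
  refine add_mem ?_ ?_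
  · induction t using TensorProduct.induction_on with
    | zero => simp
    | tmul c y =>
      rw [LinearMap.lTensor_tmul]
      exact tmul_mem_S_succ A I M n ⟨c.1, Ideal.pow_le_self hn c.2⟩ c.2 y.1 y.2
    | add t₁ t₂ h₁ h₂ =>
      rw [map_add, map_add]
      exact add_mem h₁ h₂
  · induction t' using TensorProduct.induction_on with
    | zero => simp
    | tmul c m =>
      rw [LinearMap.rTensor_tmul]
      exact Submodule.subset_span ⟨⟨c.1, Ideal.pow_le_self hn
        (Ideal.pow_le_pow_right (Nat.le_succ n) c.2)⟩, c.2, m, rfl⟩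
    | add t₁ t₂ h₁ h₂ =>
      rw [map_add, map_add]
      exact add_mem h₁ h₂

theorem main (hI : IsNilpotent I)
    (hflat : Module.Flat (A ⧸ I) (M ⧸ (I • (⊤ : Submodule A M))))
    (hinj : ∀ (n k : ℕ) (a : Fin k → ↥((FiltBl.IdealFiltration.adic I).F n))
      (x : Fin k → ↥((Rees.powFilt I M).N 0)),
      (∑ i, (AssocGr.inDeg (FiltBl.IdealFiltration.adic I) n (a i) :
          AssocGr.GrRing (FiltBl.IdealFiltration.adic I)) •
        (AssocGr.inDegM (Rees.powFilt I M) 0 (x i) : AssocGr.GrMod (Rees.powFilt I M))) = 0 →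
      (∑ i, (AssocGr.inDeg (FiltBl.IdealFiltration.adic I) n (a i)) ⊗ₜ[A]
          (Submodule.Quotient.mk (x i : M)) :
        ↥(AssocGr.gr (FiltBl.IdealFiltration.adic I) n) ⊗[A] (M ⧸ (I • (⊤ : Submodule A M)))) = 0) :
    Module.Flat A M := by
  obtain ⟨N, hN⟩ := hI
  have hN' : I ^ (N + 1) = ⊥ := by
    rw [pow_succ, hN]
    simp
  haveI : Module.Flat (A ⧸ I) ((A ⧸ I) ⊗[A] M) := by
    let e := TensorProduct.quotTensorEquivQuotSMul M I
    exact Module.Flat.of_linearEquiv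
      (LinearEquiv.extendScalarsOfSurjective Ideal.Quotient.mk_surjective e)
  have h1 : Function.Injective (I.subtype.rTensor M) := by
    rw [injective_iff_map_eq_zero]
    intro z hz
    have key : ∀ n, z ∈ S A I M (n + 1) := by
      intro n
      induction n with
      | zero =>
        rw [zero_add, S_one]
        trivial
      | succ n ih => exact step A I M hinj (n + 1) (Nat.succ_ne_zero n) z ih hz
    have := key N
    rw [S_eq_bot A I M (N + 1) hN'] at this
    exact (Submodule.mem_bot A).mp this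
  exact Groth.Agent.Helper1.LocalCrit.flat_of_rTensor_injective_of_flat_quotient_of_pow_eq_bot
    I M h1 (N + 1) hN'

end Groth.Agent.Helper7.GrFlat
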